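import Cfsg.Agent.Lib.Helper71.Sym.Defs

/-!
# S2953 / symmetric S3-amalgam lemma, package C7 (helper75): `pkgC7 : PkgC7`
-/

set_option autoImplicit false

universe u

namespace Cfsg.Agent.Lib.Helper75.Sym

open Cfsg.Agent.Lib.Helper71.Sym

theorem pkgC7 : PkgC7.{u} := by
  intro G _ _ H T Q x hA hZF w hL k hk hCR g hg hcrit
  have hC := hCR g hg hcrit
  have hww : w * w = 1 := hZF.sq w hL.w_mem
  have hwinv : w⁻¹ = w := inv_eq_of_mul_eq_one_left hww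
  have hcomm : ∀ a ∈ Zs H T, ∀ t ∈ cj g (Zs H T),
      a * t * a⁻¹ * t⁻¹ = 1 ∨ a * t * a⁻¹ * t⁻¹ = w := by
    intro a ha t ht
    have htT : t ∈ T := hC.gZ_le ht
    have e : a * t * a⁻¹ * t⁻¹ = (t * a * t⁻¹ * a⁻¹)⁻¹ := by group
    rw [e]
    rcases hL.comm_T t htT a ha with h | h
    · left; rw [h, inv_one]
    · right; rw [h, hwinv]
  refine ⟨hcomm, ?_⟩
  obtain ⟨s, hsZ, hsQ⟩ : ∃ s ∈ Zs H T, s ∉ cj g Q := by
    by_contra hc
    push Not at hc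
    exact hcrit (fun s hs => hc s hs)
  have hs'T : g⁻¹ * s * g ∈ T := mem_cj.mp (hC.Z_le hsZ)
  have hs'Q : g⁻¹ * s * g ∉ Q := fun h => hsQ (mem_cj.mpr h)
  obtain ⟨a, ha, hne⟩ : ∃ a ∈ Zs H T, (g⁻¹ * s * g) * a ≠ a * (g⁻¹ * s * g) := by
    by_contra hc
    push Not at hc
    exact hs'Q (hZF.cent _ (hA.hTH hs'T) hc)
  have h1 : (g⁻¹ * s * g) * a * (g⁻¹ * s * g)⁻¹ * a⁻¹ = w := by
    rcases hL.comm_T _ hs'T a ha with h | h
    · exfalso
      apply hne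
      have := mul_inv_eq_one.mp h
      exact mul_inv_eq_iff_eq_mul.mp this
    · exact h
  have ht' : g * a * g⁻¹ ∈ cj g (Zs H T) := conj_mem_cj ha
  have h2 : s * (g * a * g⁻¹) * s⁻¹ * (g * a * g⁻¹)⁻¹ = g * w * g⁻¹ := by
    rw [← h1]; group
  rcases hcomm s hsZ _ ht' with h | h
  · exfalso
    rw [h2] at h
    apply hL.w_ne
    have := congrArg (fun z => g⁻¹ * z * g) h
    simpa [mul_assoc] using this
  · rw [h2] at h
    exact mul_inv_eq_iff_eq_mul.mp h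

end Cfsg.Agent.Lib.Helper75.Sym
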