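import Cfsg.Agent.Lib.Helper71.Sym.Defs

/-!
# S2953 / symmetric S3-amalgam lemma, package LS (helper75): `pkgLS : PkgLS`
-/

set_option autoImplicit false

universe u

namespace Cfsg.Agent.Lib.Helper75.Sym

open Cfsg.Agent.Lib.Helper71.Sym

theorem mul_mem_of_index_le_two {G : Type*} [Group G] [Finite G] (Y Z : Subgroup G)
    (hYZ : Y ≤ Z) (hcard : Nat.card ↥Z ≤ 2 * Nat.card ↥Y) {a b : G} (ha : a ∈ Z) (hb : b ∈ Z)
    (haY : a ∉ Y) (hbY : b ∉ Y) : a * b ∈ Y := by
  have h1 : Nat.card ↥(Y.subgroupOf Z) = Nat.card ↥Y :=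
    Nat.card_congr (Subgroup.subgroupOfEquivOfLe hYZ).toEquiv
  have h2 := Subgroup.card_mul_index (Y.subgroupOf Z)
  have hpos : 0 < Nat.card ↥Y := Nat.card_pos
  have h3 : (Y.subgroupOf Z).index ≠ 0 := Subgroup.index_ne_zero_of_finite
  have h4 : (Y.subgroupOf Z).index ≠ 1 := by
    intro h
    rw [Subgroup.index_eq_one] at h
    have : (⟨a, ha⟩ : ↥Z) ∈ Y.subgroupOf Z := h ▸ Subgroup.mem_top _
    exact haY (Subgroup.mem_subgroupOf.mp this)
  have h5 : (Y.subgroupOf Z).index = 2 := by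
    have : (Y.subgroupOf Z).index ≤ 2 := by
      by_contra hc
      push Not at hc
      have h6 : Nat.card ↥Y * 3 ≤ Nat.card ↥Y * (Y.subgroupOf Z).index :=
        Nat.mul_le_mul_left _ hc
      rw [h1] at h2
      omega
    omega
  have h6 := (Subgroup.mul_mem_iff_of_index_two h5 (a := (⟨a, ha⟩ : ↥Z)) (b := ⟨b, hb⟩)).mpr
    ⟨fun h => absurd (Subgroup.mem_subgroupOf.mp h) haY,
      fun h => absurd (Subgroup.mem_subgroupOf.mp h) hbY⟩
  exact Subgroup.mem_subgroupOf.mp h6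

theorem mem_cK {G : Type*} [Group G] {H : Subgroup G} {b g : G} :
    g ∈ H ⊓ Subgroup.centralizer {b} ↔ g ∈ H ∧ b * g = g * b := by
  simp [Subgroup.mem_inf, Subgroup.mem_centralizer_iff]

theorem pkgLS : PkgLS.{u} := by
  intro G _ _ H T Q x hA hZF t htT htQ Y hYZ hcard hY
  have hZQ : Zs H T ≤ Q := hZF.le_Q
  have hsq : ∀ a ∈ Zs H T, a * a = 1 := hZF.sq
  have hinv : ∀ a ∈ Zs H T, a⁻¹ = a := fun a ha => inv_eq_of_mul_eq_one_left (hsq a ha)
  have hcQ : ∀ a ∈ Zs H T, ∀ q ∈ Q, a * q = q * a := hZF.comm_Q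
  have hcZ : ∀ a ∈ Zs H T, ∀ b ∈ Zs H T, a * b = b * a :=
    fun a ha b hb => hcQ a ha b (hZQ hb)
  have hconj : ∀ g ∈ H, ∀ a ∈ Zs H T, g * a * g⁻¹ ∈ Zs H T := hZF.conj_H
  have hconj' : ∀ g ∈ H, ∀ a ∈ Zs H T, g⁻¹ * a * g ∈ Zs H T := by
    intro g hg a ha
    have := hconj g⁻¹ (H.inv_mem hg) a ha
    simpa using this
  have hQH : Q ≤ H := hA.hQT.trans hA.hTH
  have htH : t ∈ H := hA.hTH htT
  -- (1) an element moved by `t`
  obtain ⟨a0, ha0, hta0⟩ : ∃ a0 ∈ Zs H T, t * a0 ≠ a0 * t := by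
    by_contra hc
    push Not at hc
    exact htQ (hZF.cent t htH hc)
  obtain ⟨r, hr⟩ : ∃ r, r = t * a0 * t⁻¹ * a0⁻¹ := ⟨_, rfl⟩
  have hB : t * a0 * t⁻¹ ∈ Zs H T := hconj t htH a0 ha0
  have hrZ : r ∈ Zs H T := by rw [hr]; exact (Zs H T).mul_mem hB ((Zs H T).inv_mem ha0)
  have hr1 : r ≠ 1 := by
    intro h
    apply hta0
    rw [hr] at h
    have : t * a0 * t⁻¹ = a0 := mul_inv_eq_one.mp h
    exact mul_inv_eq_iff_eq_mul.mp this
  have hrr : r * r = 1 := hsq r hrZ
  have ha0Y : a0 ∉ Y := fun h => hta0 (hY a0 h)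
  -- (3) `t` acts as a transvection with centre `r`
  have hP : ∀ a ∈ Zs H T, t * a * t⁻¹ = a ∨ t * a * t⁻¹ = r * a := by
    intro a ha
    by_cases haY : a ∈ Y
    · left
      exact mul_inv_eq_iff_eq_mul.mpr (hY a haY)
    · right
      have h1 : a * a0 ∈ Y := mul_mem_of_index_le_two Y (Zs H T) hYZ hcard ha ha0 haY ha0Y
      have h2 : t * (a * a0) = a * a0 * t := hY _ h1
      have h3 : t * a * t⁻¹ * (t * a0 * t⁻¹) = a * a0 := by
        have : t * a * t⁻¹ * (t * a0 * t⁻¹) = t * (a * a0) * t⁻¹ := by group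
        rw [this, h2]; group
      have hBinv : (t * a0 * t⁻¹)⁻¹ = t * a0 * t⁻¹ := hinv _ hB
      calc t * a * t⁻¹ = t * a * t⁻¹ * (t * a0 * t⁻¹) * (t * a0 * t⁻¹)⁻¹ := by group
        _ = a * a0 * (t * a0 * t⁻¹) := by rw [h3, hBinv]
        _ = (t * a0 * t⁻¹) * (a * a0) := hcZ _ ((Zs H T).mul_mem ha ha0) _ hB
        _ = (t * a0 * t⁻¹) * (a0 * a) := by rw [hcZ a ha a0 ha0]
        _ = r * a := by rw [hr, hinv a0 ha0]; group
  -- (4)
  have htr : t * r = r * t := by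
    rcases hP r hrZ with h | h
    · exact mul_inv_eq_iff_eq_mul.mp h
    · exfalso
      rw [hrr] at h
      apply hr1
      have := congrArg (fun z => t⁻¹ * z * t) h
      simpa [mul_assoc] using this
  -- (5)
  have hTcase : ∀ s ∈ T, s ∈ Q ∨ ∃ q ∈ Q, s = q * t⁻¹ := by
    intro s hs
    by_cases hsQ : s ∈ Q
    · exact Or.inl hsQ
    · right
      exact ⟨s * t, hZF.mul_Q s hs t htT hsQ htQ, by group⟩
  -- (6)
  have hwT : ∀ s ∈ T, s * r = r * s := by
    intro s hs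
    rcases hTcase s hs with h | ⟨q, hq, rfl⟩
    · exact (hcQ r hrZ s h).symm
    · have c1 : Commute q r := (hcQ r hrZ q hq).symm
      have c2 : Commute t⁻¹ r := (show Commute t r from htr).inv_left
      exact (c1.mul_left c2)
  -- (7)
  have hcommT : ∀ s ∈ T, ∀ a ∈ Zs H T, s * a * s⁻¹ * a⁻¹ = 1 ∨ s * a * s⁻¹ * a⁻¹ = r := by
    intro s hs a ha
    rcases hTcase s hs with h | ⟨q, hq, rfl⟩
    · left
      rw [← hcQ a ha s h]; group
    · have hb : t⁻¹ * a * t ∈ Zs H T := hconj' t htH a ha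
      obtain ⟨b, hbdef⟩ : ∃ b, b = t⁻¹ * a * t := ⟨_, rfl⟩
      rw [← hbdef] at hb
      have e1 : q * t⁻¹ * a * (q * t⁻¹)⁻¹ = b := by
        have : q * t⁻¹ * a * (q * t⁻¹)⁻¹ = q * (t⁻¹ * a * t) * q⁻¹ := by group
        rw [this, ← hbdef, ← hcQ b hb q hq]; group
      rw [e1]
      have hab : t * b * t⁻¹ = a := by rw [hbdef]; group
      rcases hP b hb with h | h
      · left
        rw [hab] at h
        rw [h]; exact mul_inv_cancel b
      · right
        rw [hab] at h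
        calc b * a⁻¹ = b * (r * b)⁻¹ := by rw [← h]
          _ = r⁻¹ := by group
          _ = r := hinv r hrZ
  -- (8)
  obtain ⟨h, hhH, hhT⟩ : ∃ h ∈ H, h ∉ T := by
    obtain ⟨h₁, hh₁, h₂, hh₂, hn1, hn2, hn3⟩ := hZF.two_cosets
    exact ⟨h₁, hh₁, hn1⟩
  -- (9)
  have hPg : ∀ g ∈ H, ∀ a ∈ Zs H T, (g * t * g⁻¹) * a * (g * t * g⁻¹)⁻¹ = a ∨
      (g * t * g⁻¹) * a * (g * t * g⁻¹)⁻¹ = (g * r * g⁻¹) * a := by
    intro g hg a ha
    have hb : g⁻¹ * a * g ∈ Zs H T := hconj' g hg a ha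
    have e : (g * t * g⁻¹) * a * (g * t * g⁻¹)⁻¹ = g * (t * (g⁻¹ * a * g) * t⁻¹) * g⁻¹ := by
      group
    rw [e]
    rcases hP _ hb with h' | h'
    · left; rw [h']; group
    · right; rw [h']; group
  -- (10)
  have hgen : ∀ g ∈ H, g ∉ T → ∀ K : Subgroup G, Q ≤ K → K ≤ H → t ∈ K → g * t * g⁻¹ ∈ K →
      K = H := by
    intro g hg hgT K hQK hKH htK hgK
    have hTK : T ≤ K := by
      intro s hs
      rcases hTcase s hs with h' | ⟨q, hq, rfl⟩
      · exact hQK h'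
      · exact K.mul_mem (hQK hq) (K.inv_mem htK)
    rcases hZF.maxT K hTK hKH with h' | h'
    · exfalso
      rw [h'] at hgK
      exact htQ (hZF.inter g hg hgT t htT hgK)
    · exact h'
  have hcentH : ∀ g ∈ H, g ∉ T → ∀ b : G, (∀ q ∈ Q, b * q = q * b) → b * t = t * b →
      b * (g * t * g⁻¹) = (g * t * g⁻¹) * b → ∀ k ∈ H, b * k = k * b := by
    intro g hg hgT b hbQ hbt hbg k hk
    have hK := hgen g hg hgT (H ⊓ Subgroup.centralizer {b})
      (fun q hq => mem_cK.mpr ⟨hQH hq, hbQ q hq⟩) inf_le_left (mem_cK.mpr ⟨htH, hbt⟩)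
      (mem_cK.mpr ⟨H.mul_mem (H.mul_mem hg htH) (H.inv_mem hg), hbg⟩)
    have : k ∈ H ⊓ Subgroup.centralizer {b} := by rw [hK]; exact hk
    exact (mem_cK.mp this).2
  -- (11) `r` is not central in `H`
  have hnotcen : ¬ ∀ g ∈ H, g * r = r * g := by
    intro hcen
    obtain ⟨S, hS⟩ : ∃ S : Subgroup G, ∀ g, g ∈ S ↔
        (g ∈ H ∧ ∀ a ∈ Zs H T, g * a * g⁻¹ = a ∨ g * a * g⁻¹ = r * a) := by
      refine ⟨{ carrier := {g | g ∈ H ∧ ∀ a ∈ Zs H T, g * a * g⁻¹ = a ∨ g * a * g⁻¹ = r * a}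
                mul_mem' := ?_
                one_mem' := ?_
                inv_mem' := ?_ }, fun g => Iff.rfl⟩
      · rintro g₁ g₂ ⟨h1H, h1⟩ ⟨h2H, h2⟩
        refine ⟨H.mul_mem h1H h2H, fun a ha => ?_⟩
        have e : g₁ * g₂ * a * (g₁ * g₂)⁻¹ = g₁ * (g₂ * a * g₂⁻¹) * g₁⁻¹ := by group
        rw [e]
        rcases h2 a ha with h' | h'
        · rw [h']; exact h1 a ha
        · rw [h']
          have e2 : g₁ * (r * a) * g₁⁻¹ = r * (g₁ * a * g₁⁻¹) := by
            have := hcen g₁ h1H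
            calc g₁ * (r * a) * g₁⁻¹ = (g₁ * r) * a * g₁⁻¹ := by group
              _ = r * g₁ * a * g₁⁻¹ := by rw [this]
              _ = r * (g₁ * a * g₁⁻¹) := by group
          rw [e2]
          rcases h1 a ha with h'' | h''
          · right; rw [h'']
          · left; rw [h'', ← mul_assoc, hrr, one_mul]
      · exact ⟨H.one_mem, fun a ha => Or.inl (by simp)⟩
      · rintro g ⟨hgH, hg⟩
        refine ⟨H.inv_mem hgH, fun a ha => ?_⟩
        have hb : g⁻¹ * a * g ∈ Zs H T := hconj' g hgH a ha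
        have e : g⁻¹ * a * g⁻¹⁻¹ = g⁻¹ * a * g := by rw [inv_inv]
        rw [e]
        have hab : g * (g⁻¹ * a * g) * g⁻¹ = a := by group
        rcases hg _ hb with h' | h'
        · left; rw [hab] at h'; exact h'.symm
        · right
          rw [hab] at h'
          calc g⁻¹ * a * g = r⁻¹ * (r * (g⁻¹ * a * g)) := by group
            _ = r⁻¹ * a := by rw [← h']
            _ = r * a := by rw [hinv r hrZ]
    have hQS : Q ≤ S := by
      intro q hq
      rw [hS]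
      exact ⟨hQH hq, fun a ha => Or.inl (by rw [← hcQ a ha q hq]; group)⟩
    have htS : t ∈ S := (hS t).mpr ⟨htH, hP⟩
    have hhS : h * t * h⁻¹ ∈ S := by
      refine (hS _).mpr ⟨H.mul_mem (H.mul_mem hhH htH) (H.inv_mem hhH), fun a ha => ?_⟩
      have := hPg h hhH a ha
      have hrh : h * r * h⁻¹ = r := by rw [hcen h hhH]; group
      rw [hrh] at this
      exact this
    have hSH : S = H := hgen h hhH hhT S hQS (fun g hg => ((hS g).mp hg).1) htS hhS
    have hsqQ : ∀ g ∈ H, g * g ∈ Q := by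
      intro g hg
      have hgS : g ∈ S := hSH ▸ hg
      obtain ⟨_, hgP⟩ := (hS g).mp hgS
      apply hZF.cent (g * g) (H.mul_mem hg hg)
      intro a ha
      have hgr := hcen g hg
      rcases hgP a ha with h' | h'
      · have h1 : g * a = a * g := mul_inv_eq_iff_eq_mul.mp h'
        calc g * g * a = g * (g * a) := by group
          _ = g * (a * g) := by rw [h1]
          _ = (g * a) * g := by group
          _ = a * g * g := by rw [h1]
          _ = a * (g * g) := by group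
      · have h1 : g * a = r * a * g := mul_inv_eq_iff_eq_mul.mp h'
        calc g * g * a = g * (g * a) := by group
          _ = g * (r * a * g) := by rw [h1]
          _ = (g * r) * a * g := by group
          _ = r * (g * a) * g := by rw [hgr]; group
          _ = r * (r * a * g) * g := by rw [h1]
          _ = (r * r) * a * (g * g) := by group
          _ = a * (g * g) := by rw [hrr, one_mul]
    obtain ⟨h₀, hh₀, t₀, ht₀, hnot⟩ := hA.hTn
    apply hnot
    have e : h₀ * t₀ * h₀⁻¹ = (h₀ * t₀) * (h₀ * t₀) * t₀⁻¹ * (h₀ * h₀)⁻¹ := by group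
    rw [e]
    exact T.mul_mem (T.mul_mem (hA.hQT (hsqQ _ (H.mul_mem hh₀ (hA.hTH ht₀)))) (T.inv_mem ht₀))
      (T.inv_mem (hA.hQT (hsqQ _ hh₀)))
  -- (12)
  have hwcent : ∀ g ∈ H, g * r = r * g → g ∈ T := by
    intro g hg hgr
    have hTK : T ≤ H ⊓ Subgroup.centralizer {r} :=
      fun s hs => mem_cK.mpr ⟨hA.hTH hs, (hwT s hs).symm⟩
    rcases hZF.maxT _ hTK inf_le_left with h' | h'
    · have : g ∈ H ⊓ Subgroup.centralizer {r} := mem_cK.mpr ⟨hg, hgr.symm⟩
      rw [h'] at this; exact this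
    · exfalso
      apply hnotcen
      intro k hk
      have : k ∈ H ⊓ Subgroup.centralizer {r} := by rw [h']; exact hk
      exact (mem_cK.mp this).2.symm
  -- (13)
  have hB1 : ∀ g ∈ H, g ∉ T → t * (g * r * g⁻¹) * t⁻¹ = r * (g * r * g⁻¹) := by
    intro g hg hgT
    rcases hP _ (hconj g hg r hrZ) with h' | h'
    · exfalso
      have h1 : (g⁻¹ * t * g) * r = r * (g⁻¹ * t * g) := by
        have h2 : t * (g * r * g⁻¹) = (g * r * g⁻¹) * t := mul_inv_eq_iff_eq_mul.mp h'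
        calc (g⁻¹ * t * g) * r = g⁻¹ * (t * (g * r * g⁻¹)) * g := by group
          _ = g⁻¹ * ((g * r * g⁻¹) * t) * g := by rw [h2]
          _ = r * (g⁻¹ * t * g) := by group
      have h3 : g⁻¹ * t * g ∈ T := hwcent _ (H.mul_mem (H.mul_mem (H.inv_mem hg) htH) hg) h1
      have h4 : g⁻¹ ∉ T := fun h'' => hgT (by simpa using T.inv_mem h'')
      have h5 : g⁻¹ * t * g⁻¹⁻¹ ∈ T := by rw [inv_inv]; exact h3
      exact htQ (hZF.inter g⁻¹ (H.inv_mem hg) h4 t htT h5)
    · exact h'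
  have hB2 : ∀ g ∈ H, g ∉ T →
      (g * t * g⁻¹) * r * (g * t * g⁻¹)⁻¹ = (g * r * g⁻¹) * r := by
    intro g hg hgT
    rcases hPg g hg r hrZ with h' | h'
    · exfalso
      have h1 : (g * t * g⁻¹) * r = r * (g * t * g⁻¹) := mul_inv_eq_iff_eq_mul.mp h'
      have h3 : g * t * g⁻¹ ∈ T := hwcent _ (H.mul_mem (H.mul_mem hg htH) (H.inv_mem hg)) h1
      exact htQ (hZF.inter g hg hgT t htT h3)
    · exact h'
  refine ⟨r, { w_mem := hrZ, w_ne := hr1, w_T := hwT, w_cent := hwcent, comm_T := hcommT,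
               fix_T := ?_, indep := ?_ }⟩
  · -- fix_T
    intro s hs hsQ a ha hsa
    have hta : t * a = a * t := by
      rcases hTcase s hs with h' | ⟨q, hq, rfl⟩
      · exact absurd h' hsQ
      · have h1 : q * (t⁻¹ * a) = q * (a * t⁻¹) := by
          calc q * (t⁻¹ * a) = q * t⁻¹ * a := by group
            _ = a * (q * t⁻¹) := hsa
            _ = (a * q) * t⁻¹ := by group
            _ = q * a * t⁻¹ := by rw [hcQ a ha q hq]
            _ = q * (a * t⁻¹) := by group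
        have h2 : t⁻¹ * a = a * t⁻¹ := mul_left_cancel h1
        calc t * a = t * (a * t⁻¹) * t := by group
          _ = t * (t⁻¹ * a) * t := by rw [h2]
          _ = a * t := by group
    rcases hPg h hhH a ha with h' | h'
    · left
      refine Subgroup.mem_inf.mpr ⟨ha, ?_⟩
      rw [Subgroup.mem_centralizer_iff]
      intro k hk
      exact (hcentH h hhH hhT a (hcQ a ha) hta.symm (mul_inv_eq_iff_eq_mul.mp h').symm k hk).symm
    · right
      refine Subgroup.mem_inf.mpr ⟨(Zs H T).mul_mem ha hrZ, ?_⟩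
      rw [Subgroup.mem_centralizer_iff]
      intro k hk
      have hq' : ∀ q ∈ Q, (a * r) * q = q * (a * r) := hcQ _ ((Zs H T).mul_mem ha hrZ)
      have ht' : (a * r) * t = t * (a * r) := by
        calc a * r * t = a * (r * t) := by group
          _ = a * (t * r) := by rw [htr]
          _ = (a * t) * r := by group
          _ = t * a * r := by rw [hta]
          _ = t * (a * r) := by group
      have hh' : (a * r) * (h * t * h⁻¹) = (h * t * h⁻¹) * (a * r) := by
        have e1 : (h * t * h⁻¹) * (a * r) * (h * t * h⁻¹)⁻¹ =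
            ((h * t * h⁻¹) * a * (h * t * h⁻¹)⁻¹) * ((h * t * h⁻¹) * r * (h * t * h⁻¹)⁻¹) := by
          group
        rw [h', hB2 h hhH hhT] at e1
        have hr'Z : h * r * h⁻¹ ∈ Zs H T := hconj h hhH r hrZ
        have e2 : (h * r * h⁻¹ * a) * (h * r * h⁻¹ * r) = a * r := by
          calc (h * r * h⁻¹ * a) * (h * r * h⁻¹ * r)
              = (a * (h * r * h⁻¹)) * (h * r * h⁻¹ * r) := by rw [hcZ a ha _ hr'Z]
            _ = a * ((h * r * h⁻¹) * (h * r * h⁻¹)) * r := by group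
            _ = a * r := by rw [hsq _ hr'Z, mul_one]
        rw [e2] at e1
        exact (mul_inv_eq_iff_eq_mul.mp e1).symm
      exact (hcentH h hhH hhT (a * r) hq' ht' hh' k hk).symm
  · -- indep
    intro g hg hgT hmem
    have hc := (Subgroup.mem_inf.mp hmem).2
    have hcomm : t * (r * (g * r * g⁻¹)) = r * (g * r * g⁻¹) * t :=
      Subgroup.mem_centralizer_iff.mp hc t htH
    have h2 : t * (g * r * g⁻¹) = r * (g * r * g⁻¹) * t :=
      mul_inv_eq_iff_eq_mul.mp (hB1 g hg hgT)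
    have h1 : t * (r * (g * r * g⁻¹)) = (g * r * g⁻¹) * t := by
      calc t * (r * (g * r * g⁻¹)) = (t * r) * (g * r * g⁻¹) := by group
        _ = r * (t * (g * r * g⁻¹)) := by rw [htr]; group
        _ = r * (r * (g * r * g⁻¹) * t) := by rw [h2]
        _ = (r * r) * (g * r * g⁻¹) * t := by group
        _ = (g * r * g⁻¹) * t := by rw [hrr, one_mul]
    have h3 : r * (g * r * g⁻¹) * t = (g * r * g⁻¹) * t := hcomm.symm.trans h1
    have h4 : r * (g * r * g⁻¹) = g * r * g⁻¹ := mul_right_cancel h3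
    exact hr1 (mul_right_cancel (h4.trans (one_mul _).symm))

end Cfsg.Agent.Lib.Helper75.Sym
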